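import Groth.Agent.ResProp.EF.K792.Edge
import Groth.Agent.ResProp.EF.K874.RG

/-!
# The projection of the total cobar complex `RG c` to cobar degree `0`

* `isTheta_RG` : `RG c` satisfies `IsTheta`;
* `pr c : RG c ⟶ (c ⋙ ev [0]).mapHomologicalComplex` : projection to cobar degree `0` (forgetful map);
-/

set_option autoImplicit false
set_option backward.isDefEq.respectTransparency false
set_option backward.isDefEq.respectTransparency.types false

universe t w v u

open CategoryTheory CategoryTheory.Limits HomologicalComplex HomologicalComplex₂ ComplexShape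

namespace Groth.Agent.ResProp.EF.K792

open K781.Desc Groth.Agent.Htor.H253.TotalPrj Groth.Agent.ResProp.EF.K874

variable {C : Type*} [Category* C] [Abelian C] {D : Type u} [Category.{v} D] [Abelian D]
  [HasCountableCoproducts D] [CountableAB4 D]
  (c : C ⥤ (SimplexCategory ⥤ D)) [c.Additive]

/-- the functor `c₀` -/
abbrev c0 : C ⥤ D := c ⋙ (evaluation SimplexCategory D).obj (SimplexCategory.mk 0)

/-- the projection of the total cobar complex to cobar degree `0`, in degree `n` -/
noncomputable def prX (K : CochainComplex C ℤ) (n : ℤ) : ((RG c).obj K).X n ⟶ (c0 c).obj (K.X n) :=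
  prj ((bi c).obj K) n 0 n ≫ (θ (c.obj (K.X n)) 0 0 rfl).hom

/-- the projection of the total cobar complex to cobar degree `0` -/
noncomputable def pr : RG c ⟶ (c0 c).mapHomologicalComplex (up ℤ) where
  app K :=
    { f := fun n => prX c K n
      comm' := by
        rintro n n' (h : n + 1 = n')
        subst h
        have h1 := d_prj ((bi c).obj K) n (n + 1) (-1) 0 n (n + 1) rfl (by simp) rfl (by simp)
        have h2 : prj ((bi c).obj K) (n + 1) (-1) n = 0 := (isZero_neg _ (-1) (by simp)).eq_of_tgt _ _
        rw [h2, zero_comp, smul_zero, add_zero] at h1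
        have h3 := θ_naturality (c.map (K.d n (n + 1))) 0 0 rfl
        change (prj ((bi c).obj K) n 0 n ≫ (θ (c.obj (K.X n)) 0 0 rfl).hom) ≫
            (c.map (K.d n (n + 1))).app (SimplexCategory.mk 0) =
          (((bi c).obj K).total (up ℤ)).d n (n + 1) ≫ prj ((bi c).obj K) (n + 1) 0 (n + 1) ≫
            (θ (c.obj (K.X (n + 1))) 0 0 rfl).hom
        rw [Category.assoc, ← h3, reassoc_of% h1]
        rfl }
  naturality K L f := by
    ext n
    have h1 := map_prj ((bi c).map f) n 0 n
    have h3 := θ_naturality (c.map (f.f n)) 0 0 rfl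
    change (total.map ((bi c).map f) (up ℤ)).f n ≫ prj ((bi c).obj L) n 0 n ≫ (θ (c.obj (L.X n)) 0 0 rfl).hom =
      (prj ((bi c).obj K) n 0 n ≫ (θ (c.obj (K.X n)) 0 0 rfl).hom) ≫ (c.map (f.f n)).app (SimplexCategory.mk 0)
    rw [reassoc_of% h1, Category.assoc, ← h3]
    rfl

variable [PreservesFiniteLimits c] [PreservesFiniteColimits c]

theorem isTheta_RG : IsTheta (RG c) where
  ex _ S _ hS := shortExact_RG c S hS
  van a n K h1 h2 := by
    rw [CochainComplex.isGE_iff]
    intro i hi
    exact exactAt_RG c K a n (fun j hj => K.isZero_of_isStrictlyGE a j) (fun j hj => K.exactAt_of_isGE n j) i hi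

end Groth.Agent.ResProp.EF.K792
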