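import Groth.Agent.ResProp.EF.K792.RGEdge
import Groth.Agent.ResProp.EF.K517.Surj2
import Groth.Agent.ResProp.EF.K110.RGPrj
import Mathlib.Algebra.Category.Grp.AB

/-!
# `K517.inv (rgPrj c) M` is the equalizer of the two cofaces of `c M`
-/

set_option autoImplicit false
set_option backward.isDefEq.respectTransparency false
set_option backward.isDefEq.respectTransparency.types false

universe t w v u

open CategoryTheory CategoryTheory.Limits HomologicalComplex HomologicalComplex₂ ComplexShape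

namespace Groth.Agent.ResProp.EF.K792

open K781.Desc Groth.Agent.Htor.H253.TotalPrj Groth.Agent.ResProp.EF.K874

section

variable {C : Type*} [Category* C] [Abelian C] {D : Type u} [Category.{v} D] [Abelian D]
  [HasCountableCoproducts D] [CountableAB4 D]
  (c : C ⥤ (SimplexCategory ⥤ D)) [c.Additive]

omit [CountableAB4 D] in
theorem rgPrj_eq_pr : K110.rgPrj c = pr c := rfl

variable [PreservesFiniteLimits c] [PreservesFiniteColimits c]

omit [CountableAB4 D] in
/-- edge values of `M[0]` are invariant -/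
theorem edge_single_dd (M : C) :
    edge (pr c) ((single C (up ℤ) 0).obj M) 0 ≫ (c0 c).map (singleObjHomologySelfIso (up ℤ) 0 M).hom ≫
      dd (c.obj M) 0 = 0 := by
  let S := (single C (up ℤ) 0).obj M
  let B := (bi c).obj S
  let θ₀ : (B.X 0).X 0 ≅ (c0 c).obj (S.X 0) := θ (c.obj (S.X 0)) 0 0 rfl
  let θ₁ : (B.X 0).X 1 ≅ (c.obj (S.X 0)).obj (SimplexCategory.mk 1) := θ (c.obj (S.X 0)) 1 1 rfl
  have k1 : ((RG c).obj S).iCycles 0 ≫ prX c S 0 ≫ dd (c.obj (S.X 0)) 0 = 0 := by
    have h1 := d_prj B (-1) 0 0 1 0 1 rfl rfl rfl rfl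
    have h2 : prj B (-1) 1 0 = 0 := by
      have : IsZero ((B.X (-1)).X 1) :=
        isZero_of_isZero _ (c.map_isZero (isZero_single_obj_X _ _ _ _ (by simp))) 1
      exact this.eq_of_tgt _ _
    rw [h2, zero_comp, zero_add, Int.negOnePow_zero, one_smul] at h1
    have h3 : (B.X 0).d 0 1 ≫ θ₁.hom = θ₀.hom ≫ dd (c.obj (S.X 0)) 0 := θ_d (c.obj (S.X 0)) 0 0 1 rfl rfl
    have h4 : ((RG c).obj S).iCycles 0 ≫ (B.total (up ℤ)).d 0 1 = 0 := ((RG c).obj S).iCycles_d 0 1
    change ((RG c).obj S).iCycles 0 ≫ (prj B 0 0 0 ≫ θ₀.hom) ≫ dd (c.obj (S.X 0)) 0 = 0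
    rw [Category.assoc, ← h3, ← reassoc_of% h1, reassoc_of% h4, zero_comp]
  let a : ((RG c).obj S).cycles 0 ⟶ (c0 c).obj (S.cycles 0) :=
    cyclesMap ((pr c).app S) 0 ≫ ((S.sc 0).mapCyclesIso (c0 c)).hom
  have ha : cyclesMap ((pr c).app S) 0 ≫ (((c0 c).mapHomologicalComplex (up ℤ)).obj S).iCycles 0 =
      a ≫ (c0 c).map (S.iCycles 0) := by
    have h2 := (S.sc 0).mapCyclesIso_hom_iCycles (c0 c)
    simp only [a, Category.assoc]
    exact congrArg (fun f => cyclesMap ((pr c).app S) 0 ≫ f) h2.symm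
  have h1 := hmap_π (c0 c) S 0 a (cyclesMap ((pr c).app S) 0) ha
  have h5 : (c0 c).map (S.homologyπ 0) ≫ (c0 c).map (singleObjHomologySelfIso (up ℤ) 0 M).hom =
      (c0 c).map (S.iCycles 0) ≫ (c0 c).map (singleObjXSelf (up ℤ) 0 M).hom := by
    rw [← Functor.map_comp, ← Functor.map_comp, homologyπ_singleObjHomologySelfIso_hom, singleObjCyclesSelfIso_hom]
  have h6 : (c0 c).map (singleObjXSelf (up ℤ) 0 M).hom ≫ dd (c.obj M) 0 =
      dd (c.obj (S.X 0)) 0 ≫ (c.map (singleObjXSelf (up ℤ) 0 M).hom).app (SimplexCategory.mk 1) :=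
    dd_naturality (c.map (singleObjXSelf (up ℤ) 0 M).hom) 0
  have h7 : ((pr c).app S).f 0 = prX c S 0 := rfl
  have e1 : ((RG c).obj S).homologyπ 0 ≫ edge (pr c) S 0 = a ≫ (c0 c).map (S.homologyπ 0) := by
    rw [← h1, edge, homologyπ_naturality_assoc]
  have e2 : (((RG c).obj S).homologyπ 0 ≫ edge (pr c) S 0) ≫ (c0 c).map (singleObjHomologySelfIso (up ℤ) 0 M).hom =
      ((RG c).obj S).iCycles 0 ≫ prX c S 0 ≫ (c0 c).map (singleObjXSelf (up ℤ) 0 M).hom := by
    rw [e1, Category.assoc, h5, ← Category.assoc, ← ha, cyclesMap_i, h7, Category.assoc]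
  rw [← cancel_epi (((RG c).obj S).homologyπ 0), comp_zero, ← Category.assoc, ← Category.assoc, e2,
    Category.assoc, Category.assoc, h6]
  have k2 := congrArg (fun f => f ≫ (c.map (singleObjXSelf (up ℤ) 0 M).hom).app (SimplexCategory.mk 1)) k1
  simpa only [Category.assoc, zero_comp] using k2

end

section Ab

theorem countableAB4_ab : CountableAB4 AddCommGrpCat.{t} := by
  have : HasFiniteBiproducts AddCommGrpCat.{t} := Abelian.hasFiniteBiproducts
  have : HasFilteredColimitsOfSize.{0, 0} AddCommGrpCat.{t} := inferInstance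
  have : AB5OfSize.{0, 0} AddCommGrpCat.{t} := AB5OfSize_of_univLE.{0, 0, t, t} AddCommGrpCat.{t}
  exact CountableAB4.of_countableAB5 _

variable {C : Type*} [Category* C] [Abelian C] (c : C ⥤ (SimplexCategory ⥤ AddCommGrpCat.{t})) [c.Additive]
  [PreservesFiniteLimits c] [PreservesFiniteColimits c]

omit [c.Additive] [PreservesFiniteLimits c] [PreservesFiniteColimits c] [Abelian C] in
theorem dd_zero_apply (P : SimplexCategory ⥤ AddCommGrpCat.{t}) (x : P.obj (SimplexCategory.mk 0)) :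
    (dd P 0).hom x = (P.map (SimplexCategory.δ 0)).hom x - (P.map (SimplexCategory.δ 1)).hom x := by
  simp [dd, Fin.sum_univ_two, sub_eq_add_neg]

/-- **`inv` is the equalizer of the two cofaces** -/
theorem mem_inv_iff (M : C) (x : (K110.ev0 c).obj M) : x ∈ K517.inv (K110.rgPrj c) M ↔
    ((c.obj M).map (SimplexCategory.δ 0)).hom x = ((c.obj M).map (SimplexCategory.δ 1)).hom x := by
  constructor
  · rintro ⟨w, rfl⟩
    have h1 := congrArg (fun f => f.hom w) (edge_single_dd c M)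
    rw [← sub_eq_zero, ← dd_zero_apply]
    exact h1
  · intro hx
    rw [← sub_eq_zero, ← dd_zero_apply] at hx
    have h1 : (ShortComplex.mk (kernel.ι (dd (c.obj M) 0)) (dd (c.obj M) 0) (kernel.condition _)).Exact :=
      ShortComplex.exact_of_f_is_kernel _ (kernelIsKernel _)
    obtain ⟨k, hk⟩ := (ShortComplex.ab_exact_iff _).1 h1 x hx
    obtain ⟨w, hw⟩ := edge_single c M (kernel.ι (dd (c.obj M) 0)) (kernel.condition _)
    refine ⟨w.hom k, ?_⟩
    have h2 := congrArg (fun f => f.hom k) hw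
    exact h2.trans hk

/-- for `Z` strictly bounded below with cobar-acyclic `H^j Z`, `j < 0`, the edge values of `Z` are the equalizer of the two
cofaces of `c (H^0 Z)` -/
theorem edge_range_iff {Z : CochainComplex C ℤ} (a : ℤ) (hZ : Z.IsStrictlyGE a)
    (hac : ∀ j, j < 0 → ∀ i : ℤ, 0 < i → ((cf _).obj (c.obj (Z.homology j))).ExactAt i)
    (x : (K110.ev0 c).obj (Z.homology 0)) : (∃ y : ((RG c).obj Z).homology 0, (edge (K110.rgPrj c) Z 0).hom y = x) ↔
    ((c.obj (Z.homology 0)).map (SimplexCategory.δ 0)).hom x = ((c.obj (Z.homology 0)).map (SimplexCategory.δ 1)).hom x := by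
  have h0 := countableAB4_ab.{t}
  have h : ∀ j < 0, Acyc (RG c) (Z.homology j) := fun j hj => acyc_RG c _ (hac j hj)
  rw [← mem_inv_iff]
  constructor
  · rintro ⟨y, rfl⟩
    exact K517.edge_mem_inv (K110.rgPrj c) (isTheta_RG c) a hZ h y
  · intro hx
    exact K517.surj_lift (K110.rgPrj c) (isTheta_RG c) a hZ h hx

end Ab

end Groth.Agent.ResProp.EF.K792
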