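import Groth.Agent.ResProp.EF.K792.RGPr

/-!
# The edge map of the total cobar complex `RG c`

* `acyc_RG` : `H^i (cf (c M)) = 0` for `i > 0` ⇒ `Acyc (RG c) M`;
* `rg_edge` : for `Z` strictly bounded below with acyclic `H^j(Z)`, `j < 0`, the image of `H^0(RG Z) ⟶ c₀(H^0 Z)` is the
  equalizer of the two cofaces.
-/

set_option autoImplicit false
set_option backward.isDefEq.respectTransparency false
set_option backward.isDefEq.respectTransparency.types false

universe t w v u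

open CategoryTheory CategoryTheory.Limits HomologicalComplex HomologicalComplex₂ ComplexShape

namespace Groth.Agent.ResProp.EF.K792

open K781.Desc Groth.Agent.Htor.H253.TotalPrj Groth.Agent.ResProp.EF.K874

variable {C : Type*} [Category* C] [Abelian C] {D : Type u} [Category.{v} D] [Abelian D]
  [HasCountableCoproducts D] [CountableAB4 D]
  (c : C ⥤ (SimplexCategory ⥤ D)) [c.Additive] [PreservesFiniteLimits c] [PreservesFiniteColimits c]

omit [CountableAB4 D] [PreservesFiniteLimits c] [PreservesFiniteColimits c] in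
/-- the total cobar complex of an object in degree `j` -/
theorem exactAt_RG_single' (M : C) (j k i : ℤ) (hi : j + (k + 1) = i) (h : ((cf D).obj (c.obj M)).ExactAt (k + 1)) :
    ((RG c).obj ((single C (up ℤ) j).obj M)).ExactAt i := by
  subst hi
  let S := (single C (up ℤ) j).obj M
  let B := (bi c).obj S
  have hb : Bdd B := bdd_bi c S j (fun k hk => isZero_single_obj_X _ _ _ _ (by lia))
  have hz : ∀ p q : ℤ, p ≠ j → IsZero ((B.X p).X q) := fun p q hp =>
    isZero_of_isZero _ (c.map_isZero (isZero_single_obj_X _ _ _ _ hp)) q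
  have hj : (B.X j).ExactAt (k + 1) := by
    have e : (cf D).obj (c.obj M) ≅ B.X j := (cf D).mapIso (c.mapIso (singleObjXSelf (up ℤ) j M).symm)
    exact h.of_iso e
  rw [exactAt_iff' _ (j + k) (j + (k + 1)) (j + (k + 1) + 1) (by simp; lia) (by simp),
    ShortComplex.exact_iff_exact_up_to_refinements]
  intro A f hf
  rw [exactAt_iff' _ k (k + 1) (k + 1 + 1) (by simp) (by simp),
    ShortComplex.exact_iff_exact_up_to_refinements] at hj
  have hf' : f ≫ (B.total (up ℤ)).d (j + (k + 1)) (j + (k + 1) + 1) = 0 := hf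
  have h1 : (f ≫ prj B j (k + 1) (j + (k + 1))) ≫ (B.X j).d (k + 1) (k + 1 + 1) = 0 := by
    have h2 := d_prj B (j - 1) j (k + 1) (k + 1 + 1) (j + (k + 1)) (j + (k + 1) + 1) (by simp) rfl rfl (by lia)
    have h3 : prj B (j - 1) (k + 1 + 1) (j + (k + 1)) = 0 := (hz (j - 1) _ (by lia)).eq_of_tgt _ _
    rw [h3, zero_comp, zero_add] at h2
    have h4 : f ≫ (B.total (up ℤ)).d (j + (k + 1)) (j + (k + 1) + 1) ≫ prj B j (k + 1 + 1) (j + (k + 1) + 1) = 0 := by
      rw [← Category.assoc, hf', zero_comp]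
    rw [h2, Linear.comp_units_smul, ← Category.assoc] at h4
    exact (smul_eq_zero_iff_eq j.negOnePow).1 h4
  obtain ⟨A', π, hπ, g, hg⟩ := hj (f ≫ prj B j (k + 1) (j + (k + 1))) h1
  let g' : A' ⟶ (B.X j).X k := g
  have hg' : π ≫ f ≫ prj B j (k + 1) (j + (k + 1)) = g' ≫ (B.X j).d k (k + 1) := hg
  have h5 := ι_d B j k (j + k) (j + (k + 1)) rfl (by lia)
  have h6 : (B.d j (j + 1)).f k = 0 := (hz (j + 1) _ (by lia)).eq_of_tgt _ _
  rw [h6, zero_comp, zero_add] at h5
  let x : A' ⟶ (B.total (up ℤ)).X (j + k) := j.negOnePow • (g' ≫ B.ιTotal (up ℤ) j k (j + k) rfl)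
  have h8 : x ≫ (B.total (up ℤ)).d (j + k) (j + (k + 1)) =
      g' ≫ (B.X j).d k (k + 1) ≫ B.ιTotal (up ℤ) j (k + 1) (j + (k + 1)) rfl := by
    have h9 : j.negOnePow * j.negOnePow = 1 := Int.units_mul_self _
    rw [Linear.units_smul_comp, Category.assoc, h5, Linear.comp_units_smul, smul_smul, h9, one_smul]
  refine ⟨A', π, hπ, x, ?_⟩
  refine ext_prj hb (fun p q hpq => ?_)
  by_cases hp : p = j
  · subst hp
    obtain rfl : q = k + 1 := by lia
    have h7 : (x ≫ (B.total (up ℤ)).d (p + k) (p + (k + 1))) ≫ prj B p (k + 1) (p + (k + 1)) =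
        g' ≫ (B.X p).d k (k + 1) := by
      rw [h8, Category.assoc, Category.assoc, ι_prj, Category.comp_id]
    exact (Category.assoc _ _ _).trans (hg'.trans h7.symm)
  · exact (hz p q hp).eq_of_tgt _ _

omit [CountableAB4 D] [PreservesFiniteLimits c] [PreservesFiniteColimits c] in
theorem exactAt_RG_single (M : C) (j i : ℤ) (h : ((cf D).obj (c.obj M)).ExactAt (i - j)) :
    ((RG c).obj ((single C (up ℤ) j).obj M)).ExactAt i :=
  exactAt_RG_single' c M j (i - j - 1) i (by lia) (by rwa [sub_add_cancel])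

omit [CountableAB4 D] [PreservesFiniteLimits c] [PreservesFiniteColimits c] in
/-- acyclic objects -/
theorem acyc_RG (M : C) (h : ∀ i : ℤ, 0 < i → ((cf D).obj (c.obj M)).ExactAt i) : Acyc (RG c) M :=
  fun j i hji => exactAt_RG_single c M j i (h _ (by lia))

section general

variable {C' : Type*} [Category* C'] [Abelian C'] {D' : Type*} [Category* D'] [Abelian D']
  (F : C' ⥤ D') [F.Additive] [F.PreservesHomology]

theorem homologyπ_mapHomologyIso (S : ShortComplex C') :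
    (S.map F).homologyπ ≫ (S.mapHomologyIso F).hom = (S.mapCyclesIso F).hom ≫ F.map S.homologyπ := by
  rw [S.homologyData.left.mapHomologyIso_eq F, S.homologyData.left.mapCyclesIso_eq F]
  simp only [Iso.trans_hom, Functor.mapIso_hom, Iso.symm_hom, Category.assoc]
  rw [(S.homologyData.left.map F).homologyπ_comp_homologyIso_hom_assoc]
  have h1 : S.homologyData.left.π ≫ S.homologyData.left.homologyIso.inv =
      S.homologyData.left.cyclesIso.inv ≫ S.homologyπ :=
    S.homologyData.left.π_comp_homologyIso_inv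
  have h2 : (S.homologyData.left.map F).π = F.map S.homologyData.left.π := rfl
  erw [h2, ← F.map_comp, ← F.map_comp, h1]

/-- the class of a cocycle under `H^n(F K) = F (H^n K)` -/
theorem hmap_π (K : CochainComplex C' ℤ) (n : ℤ) {A : D'} (a : A ⟶ F.obj (K.cycles n))
    (b : A ⟶ ((F.mapHomologicalComplex (up ℤ)).obj K).cycles n)
    (hab : b ≫ ((F.mapHomologicalComplex (up ℤ)).obj K).iCycles n = a ≫ F.map (K.iCycles n)) :
    b ≫ ((F.mapHomologicalComplex (up ℤ)).obj K).homologyπ n ≫ (hmap F K n).hom = a ≫ F.map (K.homologyπ n) := by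
  have h1 := homologyπ_mapHomologyIso F (K.sc n)
  have h2 := (K.sc n).mapCyclesIso_hom_iCycles F
  have h3 : b ≫ ((K.sc n).mapCyclesIso F).hom = a := by
    have : Mono (F.map (K.sc n).iCycles) := inferInstance
    rw [← cancel_mono (F.map (K.sc n).iCycles)]
    erw [Category.assoc, h2]
    exact hab
  erw [h1, ← Category.assoc, h3]
  rfl

end general

section edge

instance : (c0 c).PreservesHomology := by
  have h1 : PreservesFiniteLimits ((evaluation SimplexCategory D).obj (SimplexCategory.mk 0)) := inferInstance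
  have h2 : PreservesFiniteColimits ((evaluation SimplexCategory D).obj (SimplexCategory.mk 0)) := inferInstance
  have h3 : PreservesFiniteLimits (c0 c) := comp_preservesFiniteLimits _ _
  have h4 : PreservesFiniteColimits (c0 c) := comp_preservesFiniteColimits _ _
  infer_instance

omit [HasCountableCoproducts D] [CountableAB4 D] in
theorem dd_naturality {P Q : SimplexCategory ⥤ D} (f : P ⟶ Q) (n : ℕ) :
    f.app (SimplexCategory.mk n) ≫ dd Q n = dd P n ≫ f.app (SimplexCategory.mk (n + 1)) := by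
  simp [dd, Preadditive.comp_sum, Preadditive.sum_comp]

omit [CountableAB4 D] in
/-- invariants of `M` are classes of `H^0(RG (M[0]))` -/
theorem edge_single (M : C) {A : D} (x : A ⟶ (c0 c).obj M) (hx : x ≫ dd (c.obj M) 0 = 0) :
    ∃ w : A ⟶ ((RG c).obj ((single C (up ℤ) 0).obj M)).homology 0,
      w ≫ edge (pr c) ((single C (up ℤ) 0).obj M) 0 ≫ (c0 c).map (singleObjHomologySelfIso (up ℤ) 0 M).hom = x := by
  let S := (single C (up ℤ) 0).obj M
  let B := (bi c).obj S
  obtain ⟨x', hxd⟩ : ∃ x' : A ⟶ (c0 c).obj (S.X 0), x' = x ≫ (c0 c).map (singleObjXSelf (up ℤ) 0 M).inv := ⟨_, rfl⟩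
  have hx' : x' ≫ dd (c.obj (S.X 0)) 0 = 0 := by
    rw [hxd]
    have h1 := dd_naturality (c.map (singleObjXSelf (up ℤ) 0 M).inv) 0
    change (x ≫ (c.map (singleObjXSelf (up ℤ) 0 M).inv).app (SimplexCategory.mk 0)) ≫ dd (c.obj (S.X 0)) 0 = 0
    rw [Category.assoc, h1, reassoc_of% hx, zero_comp]
  let θ₀ : (B.X 0).X 0 ≅ (c0 c).obj (S.X 0) := θ (c.obj (S.X 0)) 0 0 rfl
  let θ₁ : (B.X 0).X 1 ≅ (c.obj (S.X 0)).obj (SimplexCategory.mk 1) := θ (c.obj (S.X 0)) 1 1 rfl
  let y : A ⟶ (B.total (up ℤ)).X 0 := x' ≫ θ₀.inv ≫ B.ιTotal (up ℤ) 0 0 0 rfl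
  have hy : y ≫ (B.total (up ℤ)).d 0 1 = 0 := by
    have h5 := ι_d B 0 0 0 1 rfl rfl
    have h6 : (B.d 0 (0 + 1)).f 0 = 0 := by
      have : IsZero ((B.X (0 + 1)).X 0) :=
        isZero_of_isZero _ (c.map_isZero (isZero_single_obj_X _ _ _ _ (by simp))) 0
      exact this.eq_of_tgt _ _
    have h5' : B.ιTotal (up ℤ) 0 0 0 rfl ≫ (B.total (up ℤ)).d 0 1 = (B.X 0).d 0 1 ≫ B.ιTotal (up ℤ) 0 1 1 rfl := by
      refine h5.trans ?_
      have e1 : (B.d 0 (0 + 1)).f 0 ≫ B.ιTotal (up ℤ) (0 + 1) 0 1 rfl = 0 := by rw [h6, zero_comp]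
      have e2 : Int.negOnePow 0 • ((B.X 0).d 0 (0 + 1) ≫ B.ιTotal (up ℤ) 0 (0 + 1) 1 rfl) =
        (B.X 0).d 0 1 ≫ B.ιTotal (up ℤ) 0 1 1 rfl := by
        rw [Int.negOnePow_zero, one_smul]; rfl
      exact (congrArg₂ (· + ·) e1 e2).trans (zero_add _)
    have h7 : (B.X 0).d 0 1 ≫ θ₁.hom = θ₀.hom ≫ dd (c.obj (S.X 0)) 0 := θ_d (c.obj (S.X 0)) 0 0 1 rfl rfl
    have h8 : θ₀.inv ≫ (B.X 0).d 0 1 = dd (c.obj (S.X 0)) 0 ≫ θ₁.inv := by
      rw [Iso.inv_comp_eq, ← Category.assoc, Iso.eq_comp_inv]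
      exact h7
    simp only [y, Category.assoc]
    rw [h5', reassoc_of% h8, reassoc_of% hx', zero_comp]
  have hyp : y ≫ prX c S 0 = x' := by
    change (x' ≫ θ₀.inv ≫ B.ιTotal (up ℤ) 0 0 0 rfl) ≫ prj B 0 0 0 ≫ θ₀.hom = x'
    simp only [Category.assoc]
    rw [reassoc_of% (ι_prj B 0 0 0 rfl), Iso.inv_hom_id, Category.comp_id]
  let w0 : A ⟶ ((RG c).obj S).cycles 0 := ((RG c).obj S).liftCycles y 1 (by simp) hy
  have hw0 : w0 ≫ ((RG c).obj S).iCycles 0 = y := ((RG c).obj S).liftCycles_i y 1 (by simp) hy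
  refine ⟨w0 ≫ ((RG c).obj S).homologyπ 0, ?_⟩
  have h1 := hmap_π (c0 c) S 0 (x ≫ (c0 c).map (singleObjCyclesSelfIso (up ℤ) 0 M).inv)
    (w0 ≫ cyclesMap ((pr c).app S) 0) (by
      have e1 : ((pr c).app S).f 0 = prX c S 0 := rfl
      rw [Category.assoc, cyclesMap_i, reassoc_of% hw0, e1, hyp, hxd, Category.assoc, ← Functor.map_comp,
        singleObjCyclesSelfIso_inv_iCycles])
  have h2 : (w0 ≫ ((RG c).obj S).homologyπ 0) ≫ edge (pr c) S 0 =
      (x ≫ (c0 c).map (singleObjCyclesSelfIso (up ℤ) 0 M).inv) ≫ (c0 c).map (S.homologyπ 0) := by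
    rw [← h1, edge, Category.assoc, homologyπ_naturality_assoc, Category.assoc]
  rw [← Category.assoc, h2, Category.assoc, Category.assoc, ← Functor.map_comp, ← Functor.map_comp,
    homologyπ_singleObjHomologySelfIso_hom, Iso.inv_hom_id, CategoryTheory.Functor.map_id, Category.comp_id]

/-- **EDGE for `RG`**: invariants of `H^0 Z` are classes of `H^0(RG Z)`, if `H^j Z`, `j < 0`, are cobar-acyclic -/
theorem rg_edge {Z : CochainComplex C ℤ} (a : ℤ) (hZ : Z.IsStrictlyGE a)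
    (hac : ∀ j, j < 0 → ∀ i : ℤ, 0 < i → ((cf D).obj (c.obj (Z.homology j))).ExactAt i)
    {A : D} (x : A ⟶ (c0 c).obj (Z.homology 0)) (hx : x ≫ dd (c.obj (Z.homology 0)) 0 = 0) :
    ∃ w : A ⟶ ((RG c).obj Z).homology 0, w ≫ edge (pr c) Z 0 = x := by
  obtain ⟨s, hs⟩ := edge_iso (pr c) (isTheta_RG c) a 0 hZ (fun j hj => acyc_RG c _ (hac j hj))
  obtain ⟨w, hw⟩ := edge_single c (Z.homology 0) x hx
  exact ⟨w ≫ s.hom, by rw [Category.assoc, hs]; exact hw⟩

end edge

end Groth.Agent.ResProp.EF.K792
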