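import Mathlib.Algebra.Homology.Embedding.CochainComplex
import Mathlib.Algebra.Homology.Embedding.TruncLEHomology
import Mathlib.Algebra.Homology.HomologySequenceLemmas
import Mathlib.Algebra.Homology.SingleHomology
import Mathlib.Algebra.Homology.ShortComplex.PreservesHomology

/-!
# The edge map of an acyclic hypercohomology

`Θ : CochainComplex C ℤ ⥤ CochainComplex D ℤ` is an "honest derived functor" (in the application: `Θ K` is the total cobar
complex of a complex `K` of comodules): it is exact and preserves cohomological lower bounds, on complexes which are strictly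
bounded below. If `K` is strictly bounded below and all its cohomology objects are `Θ`-acyclic then
`H^n(Θ K) = H^n(Θ (single n (H^n K)))`.
-/

set_option autoImplicit false

open CategoryTheory Limits HomologicalComplex

namespace Groth.Agent.ResProp.EF.K792

universe v₁ v₂ u₁ u₂

variable {C : Type u₁} [Category.{v₁} C] [Abelian C] {D : Type u₂} [Category.{v₂} D] [Abelian D]

/-- an honest derived functor on complexes which are strictly bounded below -/
structure IsTheta (Θ : CochainComplex C ℤ ⥤ CochainComplex D ℤ) [Θ.PreservesZeroMorphisms] : Prop where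
  ex : ∀ (a : ℤ) (S : ShortComplex (CochainComplex C ℤ)), S.X₂.IsStrictlyGE a → S.ShortExact → (S.map Θ).ShortExact
  van : ∀ (a n : ℤ) (K : CochainComplex C ℤ), K.IsStrictlyGE a → K.IsGE n → (Θ.obj K).IsGE n

/-- `M` is `Θ`-acyclic -/
def Acyc (Θ : CochainComplex C ℤ ⥤ CochainComplex D ℤ) (M : C) : Prop :=
  ∀ j i : ℤ, j < i → (Θ.obj ((single C (ComplexShape.up ℤ) j).obj M)).ExactAt i

section aux

theorem strictlyGE_of_mono {K L : CochainComplex C ℤ} (f : K ⟶ L) [Mono f] (a : ℤ) (h : L.IsStrictlyGE a) : K.IsStrictlyGE a := by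
  rw [CochainComplex.isStrictlyGE_iff] at h ⊢
  intro i hi
  exact (h i hi).of_mono (f.f i)

theorem strictlyGE_of_epi {K L : CochainComplex C ℤ} (f : K ⟶ L) [Epi f] (a : ℤ) (h : K.IsStrictlyGE a) : L.IsStrictlyGE a := by
  rw [CochainComplex.isStrictlyGE_iff] at h ⊢
  intro i hi
  exact (h i hi).of_epi (f.f i)

theorem isIso_f {S : ShortComplex (CochainComplex D ℤ)} (hS : S.ShortExact) (i : ℤ) (h₀ : S.X₃.ExactAt (i - 1))
    (h₁ : S.X₃.ExactAt i) : IsIso (homologyMap S.f i) := by
  have hm : Mono (homologyMap S.f i) :=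
    (hS.homology_exact₁ (i - 1) i (by simp)).mono_g (h₀.isZero_homology.eq_of_src _ _)
  have he : Epi (homologyMap S.f i) := (hS.homology_exact₂ i).epi_f (h₁.isZero_homology.eq_of_tgt _ _)
  exact isIso_of_mono_of_epi _

theorem isIso_g {S : ShortComplex (CochainComplex D ℤ)} (hS : S.ShortExact) (i : ℤ) (h₀ : S.X₁.ExactAt i)
    (h₁ : S.X₁.ExactAt (i + 1)) : IsIso (homologyMap S.g i) := by
  have hm : Mono (homologyMap S.g i) := (hS.homology_exact₂ i).mono_g (h₀.isZero_homology.eq_of_src _ _)
  have he : Epi (homologyMap S.g i) :=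
    (hS.homology_exact₃ i (i + 1) (by simp)).epi_f (h₁.isZero_homology.eq_of_tgt _ _)
  exact isIso_of_mono_of_epi _

theorem exact_f {S : ShortComplex (CochainComplex D ℤ)} (hS : S.ShortExact) (i : ℤ) [Mono (homologyMap S.f (i + 1))]
    [Epi (homologyMap S.f i)] : S.X₃.ExactAt i :=
  hS.exactAt_X₃ i inferInstance (by
    intro j hj
    obtain rfl : i + 1 = j := by simpa using hj
    infer_instance)

theorem exact_g {S : ShortComplex (CochainComplex D ℤ)} (hS : S.ShortExact) (i : ℤ) [Mono (homologyMap S.g i)]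
    [Epi (homologyMap S.g (i - 1))] : S.X₁.ExactAt i :=
  hS.exactAt_X₁ i inferInstance (by
    intro j hj
    obtain rfl : i - 1 = j := by
      have : j + 1 = i := by simpa using hj
      omega
    infer_instance)

theorem isGE_X₃ (K : CochainComplex C ℤ) (n : ℤ) : (K.shortComplexTruncLE n).X₃.IsGE (n + 1) := by
  rw [CochainComplex.isGE_iff]
  intro j hj
  have hep : Epi (homologyMap (K.shortComplexTruncLE n).f j) := by
    have := K.quasiIsoAt_ιTruncLE n j (by omega)
    have := (quasiIsoAt_iff_isIso_homologyMap (K.ιTruncLE n) j).1 this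
    exact inferInstanceAs (Epi (homologyMap (K.ιTruncLE n) j))
  have hmo : Mono (homologyMap (K.shortComplexTruncLE n).f (j + 1)) := by
    by_cases h : j + 1 ≤ n
    · have := K.quasiIsoAt_ιTruncLE n (j + 1) h
      have := (quasiIsoAt_iff_isIso_homologyMap (K.ιTruncLE n) (j + 1)).1 this
      exact inferInstanceAs (Mono (homologyMap (K.ιTruncLE n) (j + 1)))
    · have : ((K.shortComplexTruncLE n).X₁).ExactAt (j + 1) := CochainComplex.exactAt_of_isLE (K.truncLE n) n (j + 1)
      exact ⟨fun _ _ _ => this.isZero_homology.eq_of_tgt _ _⟩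
  exact exact_f (K.shortComplexTruncLE_shortExact n) j

theorem isIso_homologyMap_π (K : CochainComplex C ℤ) (n i : ℤ) (hi : n < i) :
    IsIso (homologyMap (K.shortComplexTruncLE n).g i) :=
  isIso_g (K.shortComplexTruncLE_shortExact n) i (CochainComplex.exactAt_of_isLE (K.truncLE n) n i)
    (CochainComplex.exactAt_of_isLE (K.truncLE n) n (i + 1))

/-- the map `L ⟶ H^m(L)[-m]` if `L` is zero in degrees `> m` -/
noncomputable def toSingle (L : CochainComplex C ℤ) (m : ℤ) :
    L ⟶ (single C (ComplexShape.up ℤ) m).obj (L.opcycles m) :=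
  mkHomToSingle (L.pOpcycles m) (fun i _ => L.d_pOpcycles i m)

theorem opcyclesMap_toSingle (L : CochainComplex C ℤ) (m : ℤ) :
    opcyclesMap (toSingle L m) m = (singleObjOpcyclesSelfIso (ComplexShape.up ℤ) m (L.opcycles m)).hom := by
  rw [← cancel_epi (L.pOpcycles m), p_opcyclesMap, singleObjOpcyclesSelfIso_hom]
  simp [toSingle]

instance epi_toSingle (L : CochainComplex C ℤ) (m : ℤ) : Epi (toSingle L m) := by
  refine HomologicalComplex.epi_of_epi_f _ (fun i => ?_)
  by_cases h : i = m
  · subst h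
    simp only [toSingle, mkHomToSingle_f]
    infer_instance
  · exact ⟨fun _ _ _ => (isZero_single_obj_X _ _ _ _ h).eq_of_src _ _⟩

theorem isIso_homologyι {L : CochainComplex C ℤ} (m : ℤ) (hL : L.IsStrictlyLE m) : IsIso (L.homologyι m) :=
  L.isIso_homologyι m (m + 1) (by simp) ((L.isZero_of_isStrictlyLE m (m + 1)).eq_of_tgt _ _)

theorem isIso_toSingle {L : CochainComplex C ℤ} (m : ℤ) (hL : L.IsStrictlyLE m) :
    IsIso (homologyMap (toSingle L m) m) := by
  have h1 := isIso_homologyι m hL
  have h2 := isIso_homologyι (L := (single C (ComplexShape.up ℤ) m).obj (L.opcycles m)) m inferInstance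
  have h3 := homologyι_naturality (toSingle L m) m
  rw [opcyclesMap_toSingle] at h3
  have h4 : IsIso (homologyMap (toSingle L m) m ≫ ((single C (ComplexShape.up ℤ) m).obj (L.opcycles m)).homologyι m) := by
    rw [h3]; infer_instance
  exact IsIso.of_isIso_comp_right _ (((single C (ComplexShape.up ℤ) m).obj (L.opcycles m)).homologyι m)

/-- the short exact sequence `ker ⟶ L ⟶ H^m(L)[-m]` -/
noncomputable def kerSC (L : CochainComplex C ℤ) (m : ℤ) : ShortComplex (CochainComplex C ℤ) :=
  ShortComplex.mk (kernel.ι (toSingle L m)) (toSingle L m) (kernel.condition _)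

theorem kerSC_shortExact (L : CochainComplex C ℤ) (m : ℤ) : (kerSC L m).ShortExact :=
  { exact := ShortComplex.exact_of_f_is_kernel _ (kernelIsKernel (toSingle L m))
    mono_f := inferInstanceAs (Mono (kernel.ι (toSingle L m)))
    epi_g := inferInstanceAs (Epi (toSingle L m)) }

instance (L : CochainComplex C ℤ) (m : ℤ) : Mono (kerSC L m).f := inferInstanceAs (Mono (kernel.ι (toSingle L m)))

instance (L : CochainComplex C ℤ) (m : ℤ) : Epi (kerSC L m).g := inferInstanceAs (Epi (toSingle L m))

instance mono_ι (K : CochainComplex C ℤ) (m : ℤ) : Mono (K.ιTruncLE m) :=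
  inferInstanceAs (Mono (HomologicalComplex.ιTruncLE _ _))

theorem kerSC_isLE {L : CochainComplex C ℤ} (m : ℤ) (hL : L.IsStrictlyLE m) : (kerSC L m).X₁.IsLE (m - 1) := by
  rw [CochainComplex.isLE_iff]
  intro j hj
  have hmo : ∀ k, m ≤ k → Mono (homologyMap (toSingle L m) k) := by
    intro k hk
    obtain rfl | hk := eq_or_lt_of_le hk
    · have := isIso_toSingle m hL
      infer_instance
    · exact ⟨fun _ _ _ => (CochainComplex.exactAt_of_isLE L m k).isZero_homology.eq_of_tgt _ _⟩
  have hep : ∀ k, m - 1 ≤ k → Epi (homologyMap (toSingle L m) k) := by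
    intro k hk
    by_cases h : k = m
    · subst h
      have := isIso_toSingle k hL
      infer_instance
    · exact ⟨fun _ _ _ => (isZero_single_obj_homology _ _ _ _ h).eq_of_src _ _⟩
  have h1 : Mono (homologyMap (kerSC L m).g j) := hmo j (by omega)
  have h2 : Epi (homologyMap (kerSC L m).g (j - 1)) := hep (j - 1) (by omega)
  exact exact_g (S := kerSC L m) (kerSC_shortExact L m) j

theorem kerSC_iso {L : CochainComplex C ℤ} (m j : ℤ) (hj : j < m) : IsIso (homologyMap (kerSC L m).f j) :=
  isIso_f (kerSC_shortExact L m) j (exactAt_single_obj _ _ _ _ (by omega)) (exactAt_single_obj _ _ _ _ (by omega))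

end aux

section

variable {Θ : CochainComplex C ℤ ⥤ CochainComplex D ℤ} [Θ.PreservesZeroMorphisms] (hΘ : IsTheta Θ)

include hΘ

/-- `Θ` of an acyclic complex is acyclic -/
theorem acyclic {K : CochainComplex C ℤ} (a : ℤ) (hK : K.IsStrictlyGE a) (h : K.Acyclic) : (Θ.obj K).Acyclic := by
  intro i
  have h5 := hΘ.van a (i + 1) K hK ((CochainComplex.isGE_iff _ _).2 (fun j _ => h j))
  exact (CochainComplex.isGE_iff _ _).1 h5 i (by omega)

/-- the truncation `τ_{≤ n} K` computes `H^i (Θ K)` for `i ≤ n` -/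
theorem isIso_ι {K : CochainComplex C ℤ} (a : ℤ) (hK : K.IsStrictlyGE a) (n i : ℤ) (hi : i ≤ n) :
    IsIso (homologyMap (Θ.map (K.ιTruncLE n)) i) := by
  have h := hΘ.ex a (K.shortComplexTruncLE n) hK (K.shortComplexTruncLE_shortExact n)
  have h3 : (K.shortComplexTruncLE n).X₃.IsStrictlyGE a :=
    strictlyGE_of_epi (K.shortComplexTruncLE n).g a hK
  have h5 := (CochainComplex.isGE_iff _ _).1 (hΘ.van a (n + 1) _ h3 (isGE_X₃ K n))
  exact isIso_f h i (h5 (i - 1) (by omega)) (h5 i (by omega))

theorem isIso_of_mono {K L : CochainComplex C ℤ} (f : K ⟶ L) [Mono f] [QuasiIso f] (a : ℤ) (hL : L.IsStrictlyGE a)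
    (i : ℤ) : IsIso (homologyMap (Θ.map f) i) := by
  let S : ShortComplex (CochainComplex C ℤ) := ShortComplex.mk f (cokernel.π f) (cokernel.condition f)
  have hS : S.ShortExact := { exact := ShortComplex.exact_of_g_is_cokernel _ (cokernelIsCokernel f) }
  have h1 := hS.acyclic_X₃ (by assumption)
  have h2 := acyclic hΘ a (strictlyGE_of_epi S.g a hL) h1
  exact isIso_f (hΘ.ex a S hL hS) i (h2 _) (h2 _)

theorem isIso_of_epi {K L : CochainComplex C ℤ} (f : K ⟶ L) [Epi f] [QuasiIso f] (a : ℤ) (hK : K.IsStrictlyGE a)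
    (i : ℤ) : IsIso (homologyMap (Θ.map f) i) := by
  let S : ShortComplex (CochainComplex C ℤ) := ShortComplex.mk (kernel.ι f) f (kernel.condition f)
  have hS : S.ShortExact := { exact := ShortComplex.exact_of_f_is_kernel _ (kernelIsKernel f) }
  have h1 := hS.acyclic_X₁ (by assumption)
  have h2 := acyclic hΘ a (strictlyGE_of_mono S.f a hK) h1
  exact isIso_g (hΘ.ex a S hK hS) i (h2 _) (h2 _)

omit [Θ.PreservesZeroMorphisms] hΘ in
theorem Acyc.of_iso' {M N : C} (e : M ≅ N) (h : Acyc Θ M) : Acyc Θ N := by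
  intro j i hji
  exact (h j i hji).of_iso (Θ.mapIso ((single C (ComplexShape.up ℤ) j).mapIso e))

/-- a complex with acyclic cohomology objects -/
theorem exactAt (a : ℤ) (k : ℕ) : ∀ (K : CochainComplex C ℤ) (m : ℤ), K.IsStrictlyGE a → K.IsLE m → m < a + k →
    (∀ j, j ≤ m → Acyc Θ (K.homology j)) → ∀ i, m < i → (Θ.obj K).ExactAt i := by
  induction k with
  | zero =>
    intro K m hK hm hak h i hi
    refine acyclic hΘ a hK (fun j => ?_) i
    by_cases hj : j < a
    · exact CochainComplex.exactAt_of_isGE K a j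
    · exact CochainComplex.exactAt_of_isLE K m j (by simp at hak; omega)
  | succ k ih =>
    intro K m hK hm hak h i hi
    have hK' : (K.truncLE m).IsStrictlyGE a := strictlyGE_of_mono (K.ιTruncLE m) a hK
    have hN : (kerSC (K.truncLE m) m).X₁.IsStrictlyGE a := strictlyGE_of_mono (kerSC (K.truncLE m) m).f a hK'
    have hac : ∀ j, j ≤ m → Acyc Θ ((K.truncLE m).homology j) := by
      intro j hj
      have := (quasiIsoAt_iff_isIso_homologyMap (K.ιTruncLE m) j).1 (K.quasiIsoAt_ιTruncLE m j hj)
      exact Acyc.of_iso' (asIso (homologyMap (K.ιTruncLE m) j)).symm (h j hj)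
    have h1 : ∀ i, m - 1 < i → (Θ.obj (kerSC (K.truncLE m) m).X₁).ExactAt i := by
      refine ih _ (m - 1) hN (kerSC_isLE m inferInstance) (by push_cast at hak; omega) (fun j hj => ?_)
      have := kerSC_iso (L := K.truncLE m) m j (by omega)
      exact Acyc.of_iso' (asIso (homologyMap (kerSC (K.truncLE m) m).f j)).symm (hac j (by omega))
    have h2 : Acyc Θ ((K.truncLE m).opcycles m) := by
      have := isIso_homologyι (L := K.truncLE m) m inferInstance
      exact Acyc.of_iso' (asIso ((K.truncLE m).homologyι m)) (hac m le_rfl)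
    have h3 : (Θ.obj (K.truncLE m)).ExactAt i :=
      (hΘ.ex a _ hK' (kerSC_shortExact (K.truncLE m) m)).exactAt_X₂ i (h1 i (by omega)) (h2 m i hi)
    have h5 := isIso_of_mono hΘ (K.ιTruncLE m) a hK i
    rw [exactAt_iff_isZero_homology] at h3 ⊢
    exact h3.of_iso (asIso (homologyMap (Θ.map (K.ιTruncLE m)) i)).symm

/-- `H^i(Θ K) = 0` for `i > b` if `K` has acyclic cohomology objects, zero in degrees `> b` -/
theorem exactAt_of_isLE {K : CochainComplex C ℤ} (a b : ℤ) (hK : K.IsStrictlyGE a) (hb : K.IsLE b)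
    (h : ∀ j, j ≤ b → Acyc Θ (K.homology j)) (i : ℤ) (hi : b < i) : (Θ.obj K).ExactAt i :=
  exactAt hΘ a (b + 1 - a).toNat K b hK hb (by omega) h i hi

/-- `H^m(Θ L) = H^m(Θ (H^m(L)[-m]))` for `L` zero in degrees `> m` -/
theorem isIso_toSingle_Θ {L : CochainComplex C ℤ} (a m : ℤ) (hL : L.IsStrictlyGE a) (hm : L.IsStrictlyLE m)
    (h : ∀ j, j < m → Acyc Θ (L.homology j)) : IsIso (homologyMap (Θ.map (toSingle L m)) m) := by
  have hN : (kerSC L m).X₁.IsStrictlyGE a := strictlyGE_of_mono (kerSC L m).f a hL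
  have h1 : ∀ i, m - 1 < i → (Θ.obj (kerSC L m).X₁).ExactAt i := by
    refine exactAt_of_isLE hΘ a (m - 1) hN (kerSC_isLE m hm) (fun j hj => ?_)
    have := kerSC_iso (L := L) m j (by omega)
    exact Acyc.of_iso' (asIso (homologyMap (kerSC L m).f j)).symm (h j (by omega))
  exact isIso_g (hΘ.ex a _ hL (kerSC_shortExact L m)) m (h1 m (by omega)) (h1 (m + 1) (by omega))

end

/-! ### the comparison with the forgetful functor -/

section

variable (G : C ⥤ D) [G.Additive] [G.PreservesHomology]

/-- `H^n(G K) = G (H^n K)` -/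
noncomputable def hmap (K : CochainComplex C ℤ) (n : ℤ) :
    ((G.mapHomologicalComplex (ComplexShape.up ℤ)).obj K).homology n ≅ G.obj (K.homology n) :=
  (K.sc n).mapHomologyIso G

theorem hmap_naturality {K L : CochainComplex C ℤ} (f : K ⟶ L) (n : ℤ) :
    homologyMap ((G.mapHomologicalComplex (ComplexShape.up ℤ)).map f) n ≫ (hmap G L n).hom =
      (hmap G K n).hom ≫ G.map (homologyMap f n) :=
  ShortComplex.mapHomologyIso_hom_naturality ((shortComplexFunctor C (ComplexShape.up ℤ) n).map f) G

variable {G}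
variable {Θ : CochainComplex C ℤ ⥤ CochainComplex D ℤ} [Θ.PreservesZeroMorphisms]
  (τ : Θ ⟶ G.mapHomologicalComplex (ComplexShape.up ℤ))

/-- the edge map `H^n(Θ K) ⟶ G (H^n K)` -/
noncomputable def edge (K : CochainComplex C ℤ) (n : ℤ) : (Θ.obj K).homology n ⟶ G.obj (K.homology n) :=
  homologyMap (τ.app K) n ≫ (hmap G K n).hom

omit [Θ.PreservesZeroMorphisms] in
theorem edge_naturality {K L : CochainComplex C ℤ} (f : K ⟶ L) (n : ℤ) :
    homologyMap (Θ.map f) n ≫ edge τ L n = edge τ K n ≫ G.map (homologyMap f n) := by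
  simp only [edge, Category.assoc]
  rw [← hmap_naturality, ← homologyMap_comp_assoc, ← homologyMap_comp_assoc, τ.naturality]

theorem homologyMap_toSingle_selfIso {L : CochainComplex C ℤ} (m : ℤ) :
    homologyMap (toSingle L m) m ≫ (singleObjHomologySelfIso (ComplexShape.up ℤ) m (L.opcycles m)).hom =
      L.homologyι m := by
  rw [← cancel_mono (singleObjOpcyclesSelfIso (ComplexShape.up ℤ) m (L.opcycles m)).hom, Category.assoc,
    singleObjHomologySelfIso_hom_singleObjOpcyclesSelfIso_hom, homologyι_naturality, opcyclesMap_toSingle]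

/-- the edge map of a complex with acyclic cohomology objects is the edge map of its cohomology object -/
theorem edge_iso (hΘ : IsTheta Θ) {K : CochainComplex C ℤ} (a n : ℤ) (hK : K.IsStrictlyGE a)
    (h : ∀ j, j < n → Acyc Θ (K.homology j)) :
    ∃ s : (Θ.obj ((single C (ComplexShape.up ℤ) n).obj (K.homology n))).homology n ≅ (Θ.obj K).homology n,
      s.hom ≫ edge τ K n =
        edge τ _ n ≫ G.map (singleObjHomologySelfIso (ComplexShape.up ℤ) n (K.homology n)).hom := by
  have hK' : (K.truncLE n).IsStrictlyGE a := strictlyGE_of_mono (K.ιTruncLE n) a hK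
  have h1 : IsIso (homologyMap (Θ.map (K.ιTruncLE n)) n) := isIso_ι hΘ a hK n n le_rfl
  have h2 : IsIso (homologyMap (Θ.map (toSingle (K.truncLE n) n)) n) := by
    refine isIso_toSingle_Θ hΘ a n hK' inferInstance (fun j hj => ?_)
    have := (quasiIsoAt_iff_isIso_homologyMap (K.ιTruncLE n) j).1 (K.quasiIsoAt_ιTruncLE n j hj.le)
    exact Acyc.of_iso' (asIso (homologyMap (K.ιTruncLE n) j)).symm (h j hj)
  have h3 := (quasiIsoAt_iff_isIso_homologyMap (K.ιTruncLE n) n).1 (K.quasiIsoAt_ιTruncLE n n le_rfl)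
  have h4 := isIso_homologyι (L := K.truncLE n) n inferInstance
  have h5 := isIso_toSingle (L := K.truncLE n) n inferInstance
  let e : (K.truncLE n).opcycles n ≅ K.homology n :=
    (asIso ((K.truncLE n).homologyι n)).symm ≪≫ asIso (homologyMap (K.ιTruncLE n) n)
  have k1 : inv (homologyMap (Θ.map (toSingle (K.truncLE n) n)) n) ≫ edge τ (K.truncLE n) n =
      edge τ _ n ≫ G.map (inv (homologyMap (toSingle (K.truncLE n) n) n)) := by
    rw [IsIso.inv_comp_eq, ← Category.assoc, edge_naturality, Category.assoc, ← G.map_comp, IsIso.hom_inv_id,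
      G.map_id, Category.comp_id]
  have k3 : inv (homologyMap (toSingle (K.truncLE n) n) n) =
      (singleObjHomologySelfIso (ComplexShape.up ℤ) n ((K.truncLE n).opcycles n)).hom ≫ inv ((K.truncLE n).homologyι n) := by
    rw [IsIso.inv_eq_of_hom_inv_id]
    rw [← Category.assoc, homologyMap_toSingle_selfIso, IsIso.hom_inv_id]
  have k2 : homologyMap ((single C (ComplexShape.up ℤ) n).map e.inv) n ≫
      inv (homologyMap (toSingle (K.truncLE n) n) n) ≫ homologyMap (K.ιTruncLE n) n =
      (singleObjHomologySelfIso (ComplexShape.up ℤ) n (K.homology n)).hom := by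
    rw [k3, Category.assoc, singleObjHomologySelfIso_hom_naturality_assoc]
    have : e.inv ≫ inv ((K.truncLE n).homologyι n) ≫ homologyMap (K.ιTruncLE n) n = 𝟙 _ := e.inv_hom_id
    rw [this, Category.comp_id]
  have k4 : IsIso (homologyMap (Θ.map ((single C (ComplexShape.up ℤ) n).map e.inv)) n) :=
    inferInstanceAs (IsIso ((homologyFunctor D (ComplexShape.up ℤ) n).map _))
  refine ⟨asIso (homologyMap (Θ.map ((single C (ComplexShape.up ℤ) n).map e.inv)) n ≫
    inv (homologyMap (Θ.map (toSingle (K.truncLE n) n)) n) ≫ homologyMap (Θ.map (K.ιTruncLE n)) n), ?_⟩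
  simp only [asIso_hom, Category.assoc]
  rw [edge_naturality, reassoc_of% k1, ← G.map_comp, ← Category.assoc, edge_naturality, Category.assoc, ← G.map_comp, k2]

/-- elementwise: a class of `G (H^n K)` which comes from `Θ` of the single complex `H^n(K)[-n]` comes from `Θ K` -/
theorem edge_lift {D' : Type u₂} [Category.{v₂} D'] [Abelian D'] {FD : D' → D' → Type*} {CD : D' → Type*}
    [∀ X Y, FunLike (FD X Y) (CD X) (CD Y)] [ConcreteCategory D' FD]
    {G : C ⥤ D'} [G.Additive] [G.PreservesHomology]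
    {Θ : CochainComplex C ℤ ⥤ CochainComplex D' ℤ} [Θ.PreservesZeroMorphisms]
    (τ : Θ ⟶ G.mapHomologicalComplex (ComplexShape.up ℤ)) (hΘ : IsTheta Θ) {K : CochainComplex C ℤ} (a n : ℤ)
    (hK : K.IsStrictlyGE a) (h : ∀ j, j < n → Acyc Θ (K.homology j))
    (w : ToType ((Θ.obj ((single C (ComplexShape.up ℤ) n).obj (K.homology n))).homology n)) :
    ∃ y : ToType ((Θ.obj K).homology n), edge τ K n y =
      (edge τ _ n ≫ G.map (singleObjHomologySelfIso (ComplexShape.up ℤ) n (K.homology n)).hom) w := by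
  obtain ⟨s, hs⟩ := edge_iso τ hΘ a n hK h
  exact ⟨s.hom w, by rw [← hs]; simp⟩

end

end Groth.Agent.ResProp.EF.K792
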