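import Groth.Agent.ResProp.EF.K792.InvEq

/-!
# `K517.EdgeO (RG c) O`

`O` with `u : c₀ O` universal among the elements on which the two cofaces agree.
-/

set_option autoImplicit false
set_option backward.isDefEq.respectTransparency false
set_option backward.isDefEq.respectTransparency.types false

universe t w v u

open CategoryTheory CategoryTheory.Limits HomologicalComplex HomologicalComplex₂ ComplexShape

namespace Groth.Agent.ResProp.EF.K792

open K781.Desc Groth.Agent.Htor.H253.TotalPrj Groth.Agent.ResProp.EF.K874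

section

variable {C : Type*} [Category* C] [Abelian C] {D : Type u} [Category.{v} D] [Abelian D]
  [HasCountableCoproducts D]
  (c : C ⥤ (SimplexCategory ⥤ D)) [c.Additive] [PreservesFiniteLimits c] [PreservesFiniteColimits c]

/-- edge values of complexes in degrees `≥ 0` are invariant -/
theorem edge_dd_of_ge (S : CochainComplex C ℤ) (hS : S.IsStrictlyGE 0) :
    edge (pr c) S 0 ≫ dd (c.obj (S.homology 0)) 0 = 0 := by
  let B := (bi c).obj S
  let θ₀ : (B.X 0).X 0 ≅ (c0 c).obj (S.X 0) := θ (c.obj (S.X 0)) 0 0 rfl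
  let θ₁ : (B.X 0).X 1 ≅ (c.obj (S.X 0)).obj (SimplexCategory.mk 1) := θ (c.obj (S.X 0)) 1 1 rfl
  have k1 : ((RG c).obj S).iCycles 0 ≫ prX c S 0 ≫ dd (c.obj (S.X 0)) 0 = 0 := by
    have h1 := d_prj B (-1) 0 0 1 0 1 rfl rfl rfl rfl
    have h2 : prj B (-1) 1 0 = 0 := by
      have : IsZero ((B.X (-1)).X 1) :=
        isZero_of_isZero _ (c.map_isZero (S.isZero_of_isStrictlyGE 0 (-1))) 1
      exact this.eq_of_tgt _ _
    rw [h2, zero_comp, zero_add, Int.negOnePow_zero, one_smul] at h1
    have h3 : (B.X 0).d 0 1 ≫ θ₁.hom = θ₀.hom ≫ dd (c.obj (S.X 0)) 0 := θ_d (c.obj (S.X 0)) 0 0 1 rfl rfl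
    have h4 : ((RG c).obj S).iCycles 0 ≫ (B.total (up ℤ)).d 0 1 = 0 := ((RG c).obj S).iCycles_d 0 1
    change ((RG c).obj S).iCycles 0 ≫ (prj B 0 0 0 ≫ θ₀.hom) ≫ dd (c.obj (S.X 0)) 0 = 0
    rw [Category.assoc, ← h3, ← reassoc_of% h1, reassoc_of% h4, zero_comp]
  let a : ((RG c).obj S).cycles 0 ⟶ (c0 c).obj (S.cycles 0) :=
    cyclesMap ((pr c).app S) 0 ≫ ((S.sc 0).mapCyclesIso (c0 c)).hom
  have ha : cyclesMap ((pr c).app S) 0 ≫ (((c0 c).mapHomologicalComplex (up ℤ)).obj S).iCycles 0 =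
      a ≫ (c0 c).map (S.iCycles 0) := by
    have h2 := (S.sc 0).mapCyclesIso_hom_iCycles (c0 c)
    simp only [a, Category.assoc]
    exact congrArg (fun f => cyclesMap ((pr c).app S) 0 ≫ f) h2.symm
  have h1 := hmap_π (c0 c) S 0 a (cyclesMap ((pr c).app S) 0) ha
  have h7 : ((pr c).app S).f 0 = prX c S 0 := rfl
  have e1 : ((RG c).obj S).homologyπ 0 ≫ edge (pr c) S 0 = a ≫ (c0 c).map (S.homologyπ 0) := by
    rw [← h1, edge, homologyπ_naturality_assoc]
  have hπ : IsIso (S.homologyπ 0) :=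
    S.isIso_homologyπ (-1) 0 (by simp) ((S.isZero_of_isStrictlyGE 0 (-1)).eq_of_src _ _)
  let m : S.homology 0 ⟶ S.X 0 := inv (S.homologyπ 0) ≫ S.iCycles 0
  have hm : Mono m := mono_comp _ _
  have hm1 : Mono ((c.map m).app (SimplexCategory.mk 1)) := by
    have : Mono (c.map m) := inferInstance
    exact inferInstance
  have e2 : (((RG c).obj S).homologyπ 0 ≫ edge (pr c) S 0) ≫ (c0 c).map m =
      ((RG c).obj S).iCycles 0 ≫ prX c S 0 := by
    have h8 : S.homologyπ 0 ≫ m = S.iCycles 0 := by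
      simp only [m, IsIso.hom_inv_id_assoc]
    rw [e1, Category.assoc, ← Functor.map_comp, h8, ← ha, cyclesMap_i, h7]
  rw [← cancel_epi (((RG c).obj S).homologyπ 0), ← cancel_mono ((c.map m).app (SimplexCategory.mk 1)), comp_zero,
    zero_comp, Category.assoc, Category.assoc, ← dd_naturality (c.map m) 0]
  have e3 := congrArg (fun f => f ≫ dd (c.obj (S.X 0)) 0) e2
  simp only [Category.assoc] at e3
  exact e3.trans k1

/-- edge values are invariant -/
theorem edge_dd (Z : CochainComplex C ℤ) : edge (pr c) Z 0 ≫ dd (c.obj (Z.homology 0)) 0 = 0 := by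
  have h1 := edge_dd_of_ge c (Z.truncGE 0) inferInstance
  have h2 := edge_naturality (pr c) (Z.πTruncGE 0) 0
  have h3 : IsIso (homologyMap (Z.πTruncGE 0) 0) := by
    rw [← quasiIsoAt_iff_isIso_homologyMap]
    infer_instance
  have h4 := dd_naturality (c.map (homologyMap (Z.πTruncGE 0) 0)) 0
  have h5 : Mono ((c.map (homologyMap (Z.πTruncGE 0) 0)).app (SimplexCategory.mk 1)) := by
    have : Mono (c.map (homologyMap (Z.πTruncGE 0) 0)) := inferInstance
    exact inferInstance
  rw [← cancel_mono ((c.map (homologyMap (Z.πTruncGE 0) 0)).app (SimplexCategory.mk 1)), zero_comp, Category.assoc, ← h4]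
  have e3 := congrArg (fun f => f ≫ dd (c.obj ((Z.truncGE 0).homology 0)) 0) h2
  simp only [Category.assoc] at e3
  rw [h1, comp_zero] at e3
  exact e3.symm

end

section Ab

variable {C : Type*} [Category* C] [Abelian C] (c : C ⥤ (SimplexCategory ⥤ AddCommGrpCat.{t})) [c.Additive]
  [PreservesFiniteLimits c] [PreservesFiniteColimits c]

/-- `u : c₀ O` is the universal invariant element -/
structure UnivInv (O : C) (u : (K110.ev0 c).obj O) : Prop where
  inv : ((c.obj O).map (SimplexCategory.δ 0)).hom u = ((c.obj O).map (SimplexCategory.δ 1)).hom u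
  ex : ∀ (M : C) (x : (K110.ev0 c).obj M),
    ((c.obj M).map (SimplexCategory.δ 0)).hom x = ((c.obj M).map (SimplexCategory.δ 1)).hom x →
      ∃ f : O ⟶ M, ((K110.ev0 c).map f).hom u = x
  uniq : ∀ (M : C) (f g : O ⟶ M), ((K110.ev0 c).map f).hom u = ((K110.ev0 c).map g).hom u → f = g

variable {c}

omit [c.Additive] [PreservesFiniteLimits c] [PreservesFiniteColimits c] [Abelian C] in
theorem UnivInv.inv_map {O : C} {u : (K110.ev0 c).obj O}
    (hu : ((c.obj O).map (SimplexCategory.δ 0)).hom u = ((c.obj O).map (SimplexCategory.δ 1)).hom u) {M : C} (f : O ⟶ M) :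
    ((c.obj M).map (SimplexCategory.δ 0)).hom (((K110.ev0 c).map f).hom u) =
      ((c.obj M).map (SimplexCategory.δ 1)).hom (((K110.ev0 c).map f).hom u) := by
  have h : ∀ i : Fin 2, ((c.obj M).map (SimplexCategory.δ i)).hom (((K110.ev0 c).map f).hom u) =
      ((c.map f).app (SimplexCategory.mk 1)).hom (((c.obj O).map (SimplexCategory.δ i)).hom u) := fun i =>
    congrArg (fun g => g.hom u) ((c.map f).naturality (SimplexCategory.δ i)).symm
  rw [h 0, h 1, hu]

variable (c)

theorem edge_inv (Z : CochainComplex C ℤ) (y : ((RG c).obj Z).homology 0) :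
    ((c.obj (Z.homology 0)).map (SimplexCategory.δ 0)).hom ((edge (K110.rgPrj c) Z 0).hom y) =
      ((c.obj (Z.homology 0)).map (SimplexCategory.δ 1)).hom ((edge (K110.rgPrj c) Z 0).hom y) := by
  rw [← sub_eq_zero, ← dd_zero_apply]
  exact congrArg (fun f => f.hom y) (edge_dd c Z)

/-- **`EdgeO` for the total cobar complex** -/
noncomputable def edgeO {O : C} {u : (K110.ev0 c).obj O} (h : UnivInv c O u) : K517.EdgeO (RG c) O where
  ed Z y := (h.ex (Z.homology 0) ((edge (K110.rgPrj c) Z 0).hom y) (edge_inv c Z y)).choose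
  nat {Z Z'} f x := by
    refine h.uniq _ _ _ ?_
    have h1 := (h.ex (Z.homology 0) ((edge (K110.rgPrj c) Z 0).hom x) (edge_inv c Z x)).choose_spec
    have h2 := (h.ex (Z'.homology 0) ((edge (K110.rgPrj c) Z' 0).hom ((homologyMap ((RG c).map f) 0).hom x))
      (edge_inv c Z' _)).choose_spec
    rw [h2, Functor.map_comp]
    refine Eq.trans ?_ (congrArg (fun v => ((K110.ev0 c).map (homologyMap f 0)).hom v) h1.symm)
    exact congrArg (fun g => g.hom x) (edge_naturality (K110.rgPrj c) f 0)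
  single M z := by
    let S : CochainComplex C ℤ := (single C (up ℤ) 0).obj M
    have h0 : ((c.obj (S.homology 0)).map (SimplexCategory.δ 0)).hom (((K110.ev0 c).map z).hom u) =
      ((c.obj (S.homology 0)).map (SimplexCategory.δ 1)).hom (((K110.ev0 c).map z).hom u) := UnivInv.inv_map h.inv z
    have h00 : ((c.obj M).map (SimplexCategory.δ 0)).hom
          (((K110.ev0 c).map (z ≫ (singleObjHomologySelfIso (up ℤ) 0 M).hom)).hom u) =
        ((c.obj M).map (SimplexCategory.δ 1)).hom
          (((K110.ev0 c).map (z ≫ (singleObjHomologySelfIso (up ℤ) 0 M).hom)).hom u) := UnivInv.inv_map h.inv _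
    obtain ⟨y, hy⟩ := (mem_inv_iff c M _).2 h00
    refine ⟨y, ?_⟩
    refine h.uniq _ _ _ ?_
    refine ((h.ex (S.homology 0) ((edge (K110.rgPrj c) S 0).hom y) (edge_inv c S y)).choose_spec).trans ?_
    have h1 : ((K110.ev0 c).map (singleObjHomologySelfIso (up ℤ) 0 M).hom).hom ((edge (K110.rgPrj c) S 0).hom y) =
        ((K110.ev0 c).map (singleObjHomologySelfIso (up ℤ) 0 M).hom).hom (((K110.ev0 c).map z).hom u) := by
      refine Eq.trans hy ?_
      exact congrArg (fun g => g.hom u) ((K110.ev0 c).map_comp z (singleObjHomologySelfIso (up ℤ) 0 M).hom)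
    have h2 : ∀ v : (K110.ev0 c).obj (S.homology 0), ((K110.ev0 c).map (singleObjHomologySelfIso (up ℤ) 0 M).inv).hom
        (((K110.ev0 c).map (singleObjHomologySelfIso (up ℤ) 0 M).hom).hom v) = v := by
      intro v
      change ((K110.ev0 c).map (singleObjHomologySelfIso (up ℤ) 0 M).hom ≫
        (K110.ev0 c).map (singleObjHomologySelfIso (up ℤ) 0 M).inv).hom v = v
      rw [← Functor.map_comp, Iso.hom_inv_id, CategoryTheory.Functor.map_id]
      rfl
    rw [← h2 ((edge (K110.rgPrj c) S 0).hom y), h1, h2]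

theorem edgeO_spec {O : C} {u : (K110.ev0 c).obj O} (h : UnivInv c O u) (Z : CochainComplex C ℤ)
    (y : ((RG c).obj Z).homology 0) :
    ((K110.ev0 c).map ((edgeO c h).ed Z y)).hom u = (edge (K110.rgPrj c) Z 0).hom y :=
  (h.ex (Z.homology 0) ((edge (K110.rgPrj c) Z 0).hom y) (edge_inv c Z y)).choose_spec

end Ab

end Groth.Agent.ResProp.EF.K792
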