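import Groth.Agent.ResProp.EF.F5.Iface
import Groth.Agent.ResProp.EF.K294.Tor

/-!
# The functor `hh X K : Y ↦ H^0(us Y ⊗ K)` for a bounded complex `K` of flat modules

additive, middle exact on short exact sequences, iso on quasi-isomorphisms, zero on acyclic complexes.
-/

set_option autoImplicit false

universe t w v u

open CategoryTheory CategoryTheory.Limits HomologicalComplex MonoidalCategory

namespace Groth.Agent.ResProp.EF.K792

open Groth.Agent.ResProp.EF.K294 Groth.Agent.ResProp.EF.F5 Groth.Agent.PerfB.RingKFlat Groth.Agent.Dcoh.KFlatAbs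
  Groth.Agent.Dcoh.KFlatSES Groth.Agent.Dcoh.KFlatBdd

section ring

variable {A : Type u} [CommRing A]

/-- bounded above complexes of flat modules are K-flat (second variable) -/
theorem kfl_of_flat (K : CM A) (b : ℤ) (hb : K.IsStrictlyLE b) (hK : ∀ n, Module.Flat A (K.X n)) : KFl (TR A) K := by
  exact Groth.Agent.Htor.H240.FlatTens.kfl K hK (b := b)
    (fun i hi => (CochainComplex.isStrictlyLE_iff K b).1 hb i hi)

theorem shortExact_tensR {S : ShortComplex (CM A)} (hS : S.ShortExact) {L : CM A}
    (hL : ∀ n, Module.Flat A (L.X n)) : (S.map (tensR L)).ShortExact := by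
  have : HasExactColimitsOfShape ℕ (ModuleCat.{u} A) := hasExactColimitsOfShape_nat A
  have : CountableAB4 (ModuleCat.{u} A) := by
    have : HasFiniteBiproducts (ModuleCat.{u} A) := Abelian.hasFiniteBiproducts
    have : HasFilteredColimitsOfSize.{0, 0} (ModuleCat.{u} A) := inferInstance
    have : AB5OfSize.{0, 0} (ModuleCat.{u} A) := AB5OfSize_of_univLE.{0, 0, u, u} (ModuleCat.{u} A)
    exact CountableAB4.of_countableAB5 _
  refine shortExact_map_flip (TR A) L S (fun p q => ?_)
  have h1 : (S.map (eval (ModuleCat.{u} A) (ComplexShape.up ℤ) p)).ShortExact := hS.map_of_exact (eval _ _ p)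
  have h3 : ((TR A).flip.obj (L.X q)).PreservesHomology :=
    Groth.Agent.Htor.H240.FlatTens.preservesHomology_tensorRight _ (hL q)
  exact h1.map_of_exact _

end ring

variable {C : Type v} [Category.{w} C] [Abelian C] {A : Type u} [CommRing A] (X : Chart A C)

instance : X.us.PreservesHomology := by
  have h1 : PreservesColimitsOfSize.{0, 0} X.us := X.adj.leftAdjoint_preservesColimits
  have h2 : PreservesFiniteColimits X.us := PreservesColimitsOfSize.preservesFiniteColimits X.us
  have : PreservesFiniteLimits X.us := X.exact_us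
  infer_instance

instance : PreservesFiniteColimits X.us := by
  have h1 : PreservesColimitsOfSize.{0, 0} X.us := X.adj.leftAdjoint_preservesColimits
  exact PreservesColimitsOfSize.preservesFiniteColimits X.us

instance : PreservesFiniteLimits X.us := X.exact_us

instance hh_additive (K : CM A) : (hh X K).Additive := by
  unfold hh
  infer_instance

variable {X}

theorem shortExact_usC {S : ShortComplex (CochainComplex C ℤ)} (hS : S.ShortExact) : (S.map X.usC).ShortExact := by
  refine HomologicalComplex.shortExact_of_degreewise_shortExact _ (fun n => ?_)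
  have h1 : (S.map (eval C (ComplexShape.up ℤ) n)).ShortExact := hS.map_of_exact (eval _ _ n)
  exact h1.map_of_exact X.us

theorem hh_exact {K : CM A} (hK : ∀ n, Module.Flat A (K.X n)) {S : ShortComplex (CochainComplex C ℤ)}
    (hS : S.ShortExact) : (S.map (hh X K)).Exact := by
  exact (shortExact_tensR (shortExact_usC (X := X) hS) hK).homology_exact₂ 0

theorem hh_exact_elem {K : CM A} (hK : ∀ n, Module.Flat A (K.X n)) {S : ShortComplex (CochainComplex C ℤ)}
    (hS : S.ShortExact) (x : (hh X K).obj S.X₂) (hx : ((hh X K).map S.g).hom x = 0) :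
    ∃ y : (hh X K).obj S.X₁, ((hh X K).map S.f).hom y = x := by
  have h := hh_exact (X := X) hK hS
  rw [ShortComplex.moduleCat_exact_iff] at h
  exact h x hx

theorem hh_iso {K : CM A} (b : ℤ) (hb : K.IsStrictlyLE b) (hK : ∀ n, Module.Flat A (K.X n))
    {Y Y' : CochainComplex C ℤ} (f : Y ⟶ Y') [QuasiIso f] : IsIso ((hh X K).map f) := by
  have h1 := kfl_of_flat K b hb hK
  have h2 : QuasiIso (X.usC.map f) := inferInstance
  have h3 := h1.quasiIso (X.usC.map f)
  exact (quasiIsoAt_iff_isIso_homologyMap (((TR A).map₂CochainComplex.map (X.usC.map f)).app K) 0).1 inferInstance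

theorem hh_isZero {K : CM A} (b : ℤ) (hb : K.IsStrictlyLE b) (hK : ∀ n, Module.Flat A (K.X n))
    {Y : CochainComplex C ℤ} (hY : Y.Acyclic) : IsZero ((hh X K).obj Y) := by
  have h1 := kfl_of_flat K b hb hK
  have h2 : (X.usC.obj Y).Acyclic := by
    intro n
    exact (hY n).map X.us
  have h3 := h1 _ h2 0
  rw [exactAt_iff_isZero_homology] at h3
  exact h3

end Groth.Agent.ResProp.EF.K792
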