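import Groth.Agent.ResProp.EF.K792.EdgeO
import Groth.Agent.ResProp.EF.K911.Mon
import Groth.Agent.ResProp.EF.K476.CobInst

/-!
# The unit comodule and its universal invariant element
-/

set_option autoImplicit false
set_option backward.isDefEq.respectTransparency false
set_option backward.isDefEq.respectTransparency.types false
set_option linter.dupNamespace false

universe u

open CategoryTheory CategoryTheory.Limits Opposite MonoidalCategory

namespace Groth.Agent.ResProp.EF.K792

open EF56 K784.BC K784.PM K741.RP Groth.Agent.ResProp.EF.K476.CobInst Groth.Agent.ResProp.EF.K911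

variable (A : NFᵒᵖ ⥤ CommRingCat.{u})

/-- the unit element `1` of the unit comodule -/
noncomputable def oneO : (K110.ev0 (cob A)).obj (𝟙_ (Comod A)) := (1 : A.obj (op ⟨0⟩))

theorem arr_δ0 : arr (SimplexCategory.δ (0 : Fin 2)) = pt ⟨1⟩ 1 := by
  funext i
  obtain rfl : i = 0 := Subsingleton.elim (α := Fin 1) _ _
  rfl

theorem arr_δ1 : arr (SimplexCategory.δ (1 : Fin 2)) = pt ⟨1⟩ 0 := by
  funext i
  obtain rfl : i = 0 := Subsingleton.elim (α := Fin 1) _ _
  rfl

variable {A}

/-- the section attached to an invariant element -/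
noncomputable def secOf (M : Comod A) (x : M.obj.obj (op ⟨0⟩))
    (hx : M.obj.map (pt ⟨1⟩ 0).op x = M.obj.map (pt ⟨1⟩ 1).op x) : M.obj.sections :=
  PresheafOfModules.sectionsMk (fun X => M.obj.map (pt X.unop 0).op x) (by
    have key : ∀ (a : NF) (i : Fin (a.n + 1)), M.obj.map (pt a i).op x = M.obj.map (pt a 0).op x := by
      intro a i
      let e : a ⟶ ⟨1⟩ := (![0, i] : Fin 2 → Fin (a.n + 1))
      have e0 : e ≫ pt ⟨1⟩ 0 = pt a 0 := rfl
      have e1 : e ≫ pt ⟨1⟩ 1 = pt a i := rfl
      have h0 : M.obj.map e.op (M.obj.map (pt ⟨1⟩ 0).op x) = M.obj.map (pt a 0).op x := by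
        rw [← PresheafOfModules.map_comp_apply, ← op_comp, e0]
      have h1 : M.obj.map e.op (M.obj.map (pt ⟨1⟩ 1).op x) = M.obj.map (pt a i).op x := by
        rw [← PresheafOfModules.map_comp_apply, ← op_comp, e1]
      rw [← h1, ← hx, h0]
    intro X Y f
    have h2 : M.obj.map f (M.obj.map (pt X.unop 0).op x) = M.obj.map ((pt X.unop 0).op ≫ f) x :=
      (PresheafOfModules.map_comp_apply _ _ _ _).symm
    rw [h2]
    have h3 : (pt X.unop 0).op ≫ f = (pt Y.unop ((show Fin (X.unop.n + 1) → Fin (Y.unop.n + 1) from f.unop) 0)).op := rfl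
    rw [h3, key])

/-- the map `O ⟶ M` attached to an invariant element -/
noncomputable def homOf (M : Comod A) (x : M.obj.obj (op ⟨0⟩))
    (hx : M.obj.map (pt ⟨1⟩ 0).op x = M.obj.map (pt ⟨1⟩ 1).op x) : 𝟙_ (Comod A) ⟶ M :=
  ObjectProperty.homMk ((PresheafOfModules.unitHomEquiv M.obj).symm (secOf M x hx))

theorem homOf_one (M : Comod A) (x : M.obj.obj (op ⟨0⟩))
    (hx : M.obj.map (pt ⟨1⟩ 0).op x = M.obj.map (pt ⟨1⟩ 1).op x) :
    ((K110.ev0 (cob A)).map (homOf M x hx)).hom (oneO A) = x := by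
  have h1 := (PresheafOfModules.unitHomEquiv M.obj).apply_symm_apply (secOf M x hx)
  have h2 := congrArg (fun s => s.1 (op ⟨0⟩)) h1
  have h3 : (pt ⟨0⟩ 0).op = 𝟙 (op (⟨0⟩ : NF)) := by
    apply Quiver.Hom.unop_inj
    funext i
    exact (Subsingleton.elim (α := Fin 1) _ _)
  have h4 : M.obj.map (pt ⟨0⟩ 0).op x = x := by
    rw [h3, PresheafOfModules.map_id]
    rfl
  exact h2.trans h4

theorem hom_ext_one (M : Comod A) (f g : 𝟙_ (Comod A) ⟶ M)
    (h : ((K110.ev0 (cob A)).map f).hom (oneO A) = ((K110.ev0 (cob A)).map g).hom (oneO A)) : f = g := by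
  apply ObjectProperty.hom_ext
  apply (PresheafOfModules.unitHomEquiv M.obj).injective
  apply PresheafOfModules.sections_ext
  intro X
  have key : ∀ k : 𝟙_ (Comod A) ⟶ M, (PresheafOfModules.unitHomEquiv M.obj k.hom).1 X =
      M.obj.map (pt X.unop 0).op (((K110.ev0 (cob A)).map k).hom (oneO A)) := by
    intro k
    exact ((PresheafOfModules.unitHomEquiv M.obj k.hom).2 (pt X.unop 0).op).symm
  rw [key f, key g, h]

/-- **`1` is the universal invariant element** -/
theorem univInv [Fact (GR A)] : UnivInv (cob A) (𝟙_ (Comod A)) (oneO A) where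
  inv := by
    have h : ∀ i : Fin 2, (((cob A).obj (𝟙_ (Comod A))).map (SimplexCategory.δ i)).hom (oneO A) =
        (1 : A.obj (op ⟨1⟩)) := fun i => (rg A (arr (SimplexCategory.δ i))).map_one
    rw [h 0, h 1]
  ex M x hx := by
    have h0 : M.obj.map (pt ⟨1⟩ 0).op x = M.obj.map (pt ⟨1⟩ 1).op x := by
      rw [← arr_δ0, ← arr_δ1]
      exact hx.symm
    exact ⟨homOf M x h0, homOf_one M x h0⟩
  uniq M f g h := hom_ext_one M f g h

/-- **(O1)** -/
noncomputable def edgeComod [Fact (GR A)] : K517.EdgeO (K874.RG (cob A)) (𝟙_ (Comod A)) := edgeO (cob A) univInv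

end Groth.Agent.ResProp.EF.K792
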